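import Cfsg.Agent.H436.Names

/-!
# S3691, row `F₄(q)`: the data of the name lists (helper187)

`T = F₄(p ^ f)`; `s`, `t` : primes with `ord_s(p) = 4 f`, `ord_t(p) = 3 f`; `v4`, `w3` their multiplicities in
`q ^ 4 - 1`, `q ^ 3 - 1`, so that `|T|` contains `s ^ (2 v4)`, `t ^ (2 w3)` exactly.
-/

set_option autoImplicit false

namespace Cfsg.Agent.H187.F4

open Cfsg.Agent.OrdDiv Cfsg.Agent.H436

/-- the bound for the `p`-part in cross characteristic -/
def Bd (p q : ℕ) : ℕ := if p = 2 then 9 * (q + 1) ^ 4 + 1 else 128 * (q + 1) ^ 4 + 1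

/-- the multiplicity of the prime `s` of class 4 -/
def v4 (p f s : ℕ) : ℕ := ((p ^ f) ^ 4 - 1).factorization s

/-- the multiplicity of the prime `t` of class 3 -/
def w3 (p f t : ℕ) : ℕ := ((p ^ f) ^ 3 - 1).factorization t

/-- class 12, `p`-part at most `q ^ 6` -/
def TyA (p f s c : ℕ) : Prop := c.factorization p ≤ 6 * f ∧ v4 p f s ≤ c.factorization s

/-- class 12, `p`-part at most `q ^ 12` -/
def TyB (p f s t c : ℕ) : Prop :=
  c.factorization p ≤ 12 * f ∧ (2 * w3 p f t ≤ c.factorization t ∨ 2 * v4 p f s ≤ c.factorization s)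

/-- class 8, `p`-part at most `q ^ 8` -/
def TyC (p f c : ℕ) : Prop := c.factorization p ≤ 8 * f

/-- class 8, `p`-part at most `q ^ 12` -/
def TyD (p f s t c : ℕ) : Prop :=
  c.factorization p ≤ 12 * f ∧ w3 p f t ≤ c.factorization t ∧ v4 p f s ≤ c.factorization s

/-- class 8, `p`-part at most `q ^ 16` -/
def TyE (p f s t c : ℕ) : Prop :=
  c.factorization p ≤ 16 * f ∧ w3 p f t ≤ c.factorization t ∧ 2 * v4 p f s ≤ c.factorization s

end Cfsg.Agent.H187.F4
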